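import Groth.Agent.GrpSchLib.RedSubgroup
import Groth.Agent.GrpSchLib.HomFlat
import Groth.Agent.GrpSchLib.Cartier
import Groth.Agent.GrpSchLib.MonoSubgroup
import Groth.Agent.H23.RedSub
import Mathlib.AlgebraicGeometry.Sites.Fpqc

/-!
# Smoothness and connectedness of inverse images of subgroups over an algebraically closed field

`p : M ⟶ H` is a flat surjective homomorphism whose kernel lies in the image of `C`.
-/

set_option autoImplicit false

universe u

open CategoryTheory CategoryTheory.Limits MonoidalCategory CartesianMonoidalCategory MonObj AlgebraicGeometry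

attribute [local instance] CategoryTheory.Hom.monoid CategoryTheory.Hom.group
set_option linter.style.haveILetI false
set_option linter.unusedSectionVars false

namespace Groth.Agent.Deform.Preimage

noncomputable section

/-- The inverse image of a subgroup under a homomorphism, as a group. -/
theorem exists_grpObj_pullback {E : Type*} [Category E] [CartesianMonoidalCategory E] {P G H G' : E} [GrpObj G]
    [GrpObj H] [GrpObj G'] (h : H ⟶ G') [IsMonHom h] [Mono h] (u : G ⟶ G') [IsMonHom u] {p : P ⟶ H} {a : P ⟶ G}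
    (sq : IsPullback p a h u) :
    ∃ str : GrpObj P, @IsMonHom E _ _ P G str.toMonObj _ a ∧ @IsMonHom E _ _ P H str.toMonObj _ p := by
  haveI : Mono a := MorphismProperty.of_isPullback (P := MorphismProperty.monomorphisms E) sq ‹Mono h›
  obtain ⟨η', hη⟩ : ∃ z : 𝟙_ E ⟶ P, z ≫ a = η[G] :=
    ⟨sq.lift η[H] η[G] (by rw [IsMonHom.one_hom, IsMonHom.one_hom]), sq.lift_snd _ _ _⟩
  obtain ⟨m, hm⟩ : ∃ z : P ⊗ P ⟶ P, z ≫ a = (fst P P ≫ a) * (snd P P ≫ a) :=
    ⟨sq.lift ((fst P P ≫ p) * (snd P P ≫ p)) ((fst P P ≫ a) * (snd P P ≫ a)) (by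
      rw [MonObj.mul_comp, MonObj.mul_comp, Category.assoc, Category.assoc, Category.assoc, Category.assoc, sq.w]),
      sq.lift_snd _ _ _⟩
  obtain ⟨v, hv⟩ : ∃ z : P ⟶ P, z ≫ a = a⁻¹ :=
    ⟨sq.lift p⁻¹ a⁻¹ (by rw [GrpObj.inv_comp, GrpObj.inv_comp, sq.w]), sq.lift_snd _ _ _⟩
  obtain ⟨str, hstr⟩ := GrpSchLib.exists_grpObj_of_mono a η' hη m hm v hv
  letI := str
  haveI := hstr
  have hone : η[P] ≫ p = η[H] := by
    rw [← cancel_mono h, Category.assoc, sq.w, ← Category.assoc, IsMonHom.one_hom a, IsMonHom.one_hom u,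
      IsMonHom.one_hom h]
  refine ⟨str, hstr, ?_⟩
  exact { one_hom := hone
          mul_hom := by
            rw [← cancel_mono h, Category.assoc, Category.assoc, sq.w, IsMonHom.mul_hom_assoc a,
              IsMonHom.mul_hom u, IsMonHom.mul_hom h, ← Category.assoc, ← Category.assoc, tensorHom_comp_tensorHom,
              tensorHom_comp_tensorHom, sq.w] }

variable {K : Type u} [Field K] [IsAlgClosed K] {M H C : Over (Spec (CommRingCat.of K))}
  [GrpObj M] [GrpObj H] [LocallyOfFiniteType M.hom] [QuasiCompact M.hom] [LocallyOfFiniteType H.hom]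
  (p : M ⟶ H) [IsMonHom p] [Flat p.left] [Surjective p.left] [QuasiCompact p.left]
  (a : C ⟶ M) (hker : ∀ (T : Over (Spec (CommRingCat.of K))) (x : T ⟶ M), x ≫ p = 1 → ∃ z, z ≫ a = x)
include hker

/-- The inverse image is smooth. -/
theorem smooth [IsReduced C.left] [IsReduced H.left] : Smooth M.hom := by
  obtain ⟨N, iN, j, hj, hjc, hNr, hjs, hNl, hNq⟩ := GrpSchLib.RedSubgroup.exists_redSubgroup M
  letI := iN
  haveI := hj; haveI := hjc; haveI := hNr; haveI := hjs; haveI := hNl; haveI := hNq
  haveI : Mono j := (Over.forget _).mono_of_mono_map (inferInstanceAs (Mono j.left))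
  obtain ⟨b, hb⟩ : ∃ b : C ⟶ N, b ≫ j = a := by
    obtain ⟨g, hg⟩ := H23.RedSub.exists_lift_closed a.left j.left
      (by rw [j.left.surjective.range_eq]; exact Set.subset_univ _)
    exact ⟨Over.homMk g (by rw [← Over.w j, reassoc_of% hg, Over.w a]), Over.OverMorphism.ext hg⟩
  let q := j ≫ p
  haveI : Surjective q.left := inferInstanceAs (Surjective (j.left ≫ p.left))
  haveI : QuasiCompact q.left := inferInstanceAs (QuasiCompact (j.left ≫ p.left))
  haveI : Flat q.left := GrpSchLib.flat_of_surjective_hom q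
  haveI : IsIso j.left := by
    let T : Over (Spec (CommRingCat.of K)) := Over.mk (pullback.fst p.left q.left ≫ M.hom)
    let y : T ⟶ M := Over.homMk (pullback.fst p.left q.left) rfl
    let n : T ⟶ N := Over.homMk (pullback.snd p.left q.left) (by
      show _ = pullback.fst p.left q.left ≫ M.hom
      rw [← Over.w p, pullback.condition_assoc, Over.w q])
    have hyn : y ≫ p = n ≫ q := Over.OverMorphism.ext pullback.condition
    obtain ⟨z, hz⟩ := hker T (y * (n ≫ j)⁻¹) (by
      rw [MonObj.mul_comp, GrpObj.inv_comp, hyn, Category.assoc, mul_inv_cancel])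
    have hy : ((z ≫ b) * n) ≫ j = y := by
      rw [MonObj.mul_comp, Category.assoc, hb, hz, inv_mul_cancel_right]
    obtain ⟨w, hw⟩ : ∃ w : (pullback p.left q.left : Scheme.{u}) ⟶ N.left, w ≫ j.left = pullback.fst p.left q.left :=
      ⟨((z ≫ b) * n).left, congrArg (fun t : T ⟶ M => t.left) hy⟩
    haveI : QuasiCompact (pullback.fst p.left q.left) := inferInstance
    haveI : EffectiveEpi (pullback.fst p.left q.left) := inferInstance
    let s := EffectiveEpi.desc (pullback.fst p.left q.left) w (fun g₁ g₂ h => by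
      rw [← cancel_mono j.left, Category.assoc, Category.assoc, hw, h])
    have hs : s ≫ j.left = 𝟙 _ := by
      rw [← cancel_epi (pullback.fst p.left q.left), ← Category.assoc, EffectiveEpi.fac, hw, Category.comp_id]
    haveI : IsSplitEpi j.left := ⟨⟨⟨s, hs⟩⟩⟩
    exact isIso_of_mono_of_isSplitEpi _
  haveI : IsReduced M.left := isReduced_of_isOpenImmersion (inv j.left)
  exact GrpSchLib.smooth_of_isReduced_of_isAlgClosed M

/-- The inverse image is connected. -/
theorem connected [ConnectedSpace C.left] [ConnectedSpace H.left] [LocallyOfFinitePresentation p.left] :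
    ConnectedSpace M.left := by
  haveI : Nonempty M.left := ⟨η[M].left (IsLocalRing.closedPoint K)⟩
  refine { toPreconnectedSpace := preconnectedSpace_iff_clopen.mpr fun U hU => ?_, toNonempty := inferInstance }
  haveI := LocallyOfFiniteType.jacobsonSpace M.hom
  haveI := LocallyOfFiniteType.jacobsonSpace H.hom
  have hdisj : p.left '' U ∩ p.left '' Uᶜ = ∅ := by
    by_contra hne
    have ho : ∀ V : Set M.left, IsOpen V → IsOpen (p.left '' V) := fun V hV => p.left.isOpenMap V hV
    obtain ⟨c, ⟨hc₁, hc₂⟩, hc⟩ := nonempty_inter_closedPoints (Set.nonempty_iff_ne_empty.mpr hne)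
      ((ho U hU.2).inter (ho _ hU.1.isOpen_compl)).isLocallyClosed
    have lift : ∀ V : Set M.left, IsClopen V → c ∈ p.left '' V →
        ∃ x : 𝟙_ (Over (Spec (CommRingCat.of K))) ⟶ M, x.left (IsLocalRing.closedPoint K) ∈ V ∧
          (x ≫ p).left (IsLocalRing.closedPoint K) = c := fun V hV hcV => by
      obtain ⟨v, hv, hvc⟩ := hcV
      obtain ⟨y, ⟨hy, hyc⟩, hycl⟩ := nonempty_inter_closedPoints (Z := V ∩ p.left ⁻¹' {c}) ⟨v, hv, hvc⟩
        (hV.2.isLocallyClosed.inter ((show IsClosed {c} from hc).preimage p.left.continuous).isLocallyClosed)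
      refine ⟨Over.homMk _ ((pointEquivClosedPoint M.hom).symm ⟨y, hycl⟩).2, ?_, ?_⟩
      · simpa [pointEquivClosedPoint] using hy
      · simp only [Over.comp_left, Scheme.Hom.comp_apply]
        simpa [pointEquivClosedPoint] using hyc
    obtain ⟨x, hxU, hxc⟩ := lift U hU hc₁
    obtain ⟨y, hyU, hyc⟩ := lift Uᶜ hU.compl hc₂
    have hxy : x ≫ p = y ≫ p := by
      refine Over.OverMorphism.ext (ext_of_apply_closedPoint_eq H.hom ?_ ?_ (hxc.trans hyc.symm))
      · exact Over.w (x ≫ p)
      · exact Over.w (y ≫ p)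
    obtain ⟨z, hz⟩ := hker _ (x⁻¹ * y) (by rw [MonObj.mul_comp, GrpObj.inv_comp, hxy, inv_mul_cancel])
    obtain ⟨o, ho'⟩ := hker _ (1 : 𝟙_ (Over (Spec (CommRingCat.of K))) ⟶ M) (MonObj.one_comp p)
    -- the translate of the image of `C` by `x` is connected
    let t : C ⟶ M := (toUnit C ≫ x) * a
    have ht : ∀ w : 𝟙_ (Over (Spec (CommRingCat.of K))) ⟶ C, w ≫ t = x * (w ≫ a) := fun w => by
      rw [MonObj.comp_mul, ← Category.assoc, toUnit_unique (w ≫ toUnit C) (𝟙 _), Category.id_comp]
    have hsub : Set.range t.left ⊆ U := by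
      refine (isPreconnected_range t.left.continuous).subset_isClopen hU
        ⟨x.left (IsLocalRing.closedPoint K), ⟨o.left (IsLocalRing.closedPoint K), ?_⟩, hxU⟩
      have h1 := ht o
      rw [ho', _root_.mul_one] at h1
      exact congrArg (fun r : 𝟙_ (Over (Spec (CommRingCat.of K))) ⟶ M => r.left (IsLocalRing.closedPoint K)) h1
    refine hyU (hsub ⟨z.left (IsLocalRing.closedPoint K), ?_⟩)
    have h1 := ht z
    rw [hz, mul_inv_cancel_left] at h1
    exact congrArg (fun r : 𝟙_ (Over (Spec (CommRingCat.of K))) ⟶ M => r.left (IsLocalRing.closedPoint K)) h1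
  have hcov : p.left '' U ∪ p.left '' Uᶜ = Set.univ := by
    rw [← Set.image_union, Set.union_compl_self, Set.image_univ, p.left.surjective.range_eq]
  have hclopen : IsClopen (p.left '' U) := by
    refine ⟨?_, p.left.isOpenMap U hU.2⟩
    rw [← isOpen_compl_iff, show (p.left '' U)ᶜ = p.left '' Uᶜ from
      IsCompl.compl_eq ⟨Set.disjoint_iff_inter_eq_empty.mpr hdisj, codisjoint_iff.mpr hcov⟩]
    exact p.left.isOpenMap _ hU.1.isOpen_compl
  rcases isClopen_iff.mp hclopen with h | h
  · exact Or.inl (Set.image_eq_empty.mp h)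
  · right
    by_contra hne
    obtain ⟨v, hv⟩ := Set.nonempty_compl.mpr hne
    exact (Set.eq_empty_iff_forall_notMem.mp hdisj) (p.left v) ⟨h ▸ Set.mem_univ _, ⟨v, hv, rfl⟩⟩

end

end Groth.Agent.Deform.Preimage
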